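import Mathlib

/-!
# S4981: arithmetic (helper219)

`q₀` prime to `p`, `q` prime not dividing the order of `q₀` modulo `p`: `q₀ ^ (i q ^ j) - 1` and `q₀ ^ i - 1` have the
same `p`-part; the same for `+ 1`.
-/

set_option autoImplicit false

namespace Cfsg.Agent.H219.PQ.Arith

theorem pow_sub_one {p q : ℕ} (hp : p.Prime) (hq : q.Prime) (hpq : p ≠ q) {q₀ : ℕ} (h1 : 1 < q₀)
    (h0 : ¬ p ∣ q₀) (hd : ¬ q ∣ orderOf (q₀ : ZMod p)) (j i : ℕ) (hi : i ≠ 0) :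
    ((q₀ ^ q ^ j) ^ i - 1).factorization p = (q₀ ^ i - 1).factorization p := by
  have := Fact.mk hp
  have e0 : (q₀ ^ q ^ j) ^ i = (q₀ ^ i) ^ q ^ j := by rw [← pow_mul, ← pow_mul, mul_comm]
  rw [e0]
  have hx1 : 1 < q₀ ^ i := Nat.one_lt_pow hi h1
  by_cases hpx : p ∣ q₀ ^ i - 1
  · set x := q₀ ^ i with hx
    have e1 : x ^ q ^ j - 1 = (x - 1) * ∑ k ∈ Finset.range (q ^ j), x ^ k := by
      have h2 := Nat.geomSum_eq (m := x) (by omega) (q ^ j)
      have h3 : x - 1 ∣ x ^ q ^ j - 1 := by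
        have := Nat.sub_dvd_pow_sub_pow x 1 (q ^ j)
        rwa [one_pow] at this
      rw [h2, Nat.mul_div_cancel' h3]
    have hS : ¬ p ∣ ∑ k ∈ Finset.range (q ^ j), x ^ k := by
      intro h
      have h2 : ((∑ k ∈ Finset.range (q ^ j), x ^ k : ℕ) : ZMod p) = 0 := (ZMod.natCast_eq_zero_iff _ _).2 h
      have h3 : (x : ZMod p) = 1 := by
        have h4 : ((x - 1 : ℕ) : ZMod p) = 0 := (ZMod.natCast_eq_zero_iff _ _).2 hpx
        rw [Nat.cast_sub hx1.le, Nat.cast_one] at h4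
        exact sub_eq_zero.1 h4
      push_cast at h2
      rw [h3] at h2
      simp only [one_pow, Finset.sum_const, Finset.card_range, nsmul_eq_mul, mul_one] at h2
      have h4 : p ∣ q ^ j := (ZMod.natCast_eq_zero_iff _ _).1 h2
      exact hpq ((Nat.prime_dvd_prime_iff_eq hp hq).1 (hp.dvd_of_dvd_pow h4))
    have hS0 : ∑ k ∈ Finset.range (q ^ j), x ^ k ≠ 0 := fun h => hS (by rw [h]; exact dvd_zero p)
    rw [e1, Nat.factorization_mul (by omega) hS0, Finsupp.add_apply, Nat.factorization_eq_zero_of_not_dvd hS, add_zero]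
  · rw [Nat.factorization_eq_zero_of_not_dvd hpx, Nat.factorization_eq_zero_of_not_dvd]
    intro h
    apply hpx
    have hX1 : 1 < (q₀ ^ i) ^ q ^ j := Nat.one_lt_pow (pow_ne_zero _ hq.ne_zero) hx1
    have h2 : ((q₀ : ZMod p) ^ i) ^ q ^ j = 1 := by
      have h4 : (((q₀ ^ i) ^ q ^ j - 1 : ℕ) : ZMod p) = 0 := (ZMod.natCast_eq_zero_iff _ _).2 h
      rw [Nat.cast_sub hX1.le, Nat.cast_one] at h4
      push_cast at h4
      exact sub_eq_zero.1 h4
    have h3 : orderOf ((q₀ : ZMod p) ^ i) ∣ q ^ j := orderOf_dvd_of_pow_eq_one h2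
    have h4 : orderOf ((q₀ : ZMod p) ^ i) ∣ orderOf (q₀ : ZMod p) := orderOf_pow_dvd i
    obtain ⟨k, -, hk⟩ := (Nat.dvd_prime_pow hq).1 h3
    have h5 : k = 0 := by
      by_contra hk0
      apply hd
      exact ((dvd_pow_self q hk0).trans hk.symm.dvd).trans h4
    rw [h5, pow_zero] at hk
    have h6 : (q₀ : ZMod p) ^ i = 1 := orderOf_eq_one_iff.1 hk
    rw [← ZMod.natCast_eq_zero_iff, Nat.cast_sub hx1.le, Nat.cast_one]
    push_cast
    rw [h6, sub_self]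

theorem fact_sq {p x : ℕ} (hx : 1 < x) :
    (x ^ 2 - 1).factorization p = (x + 1).factorization p + (x - 1).factorization p := by
  have h1 : x ^ 2 - 1 = (x + 1) * (x - 1) := by
    have := Nat.sq_sub_sq x 1
    rwa [one_pow] at this
  rw [h1, Nat.factorization_mul (by omega) (by omega), Finsupp.add_apply]

theorem pow_add_one {p q : ℕ} (hp : p.Prime) (hq : q.Prime) (hpq : p ≠ q) {q₀ : ℕ} (h1 : 1 < q₀)
    (h0 : ¬ p ∣ q₀) (hd : ¬ q ∣ orderOf (q₀ : ZMod p)) (j i : ℕ) (hi : i ≠ 0) :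
    ((q₀ ^ q ^ j) ^ i + 1).factorization p = (q₀ ^ i + 1).factorization p := by
  have a1 := pow_sub_one hp hq hpq h1 h0 hd j i hi
  have a2 := pow_sub_one hp hq hpq h1 h0 hd j (i * 2) (by omega)
  have hx1 : 1 < q₀ ^ i := Nat.one_lt_pow hi h1
  have hX1 : 1 < (q₀ ^ q ^ j) ^ i := Nat.one_lt_pow hi (Nat.one_lt_pow (pow_ne_zero _ hq.ne_zero) h1)
  rw [pow_mul, pow_mul, fact_sq hx1, fact_sq hX1] at a2
  omega

theorem lt_of_dvd_order {p q : ℕ} (hp : p.Prime) {c : ℕ} (hc : ¬ p ∣ c) (hd : q ∣ orderOf (c : ZMod p)) :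
    q ∣ p - 1 ∧ q < p := by
  have := Fact.mk hp
  have h1 : (c : ZMod p) ≠ 0 := by rwa [Ne, ZMod.natCast_eq_zero_iff]
  have h2 : q ∣ p - 1 := hd.trans (ZMod.orderOf_dvd_card_sub_one h1)
  have h3 := hp.one_lt
  have h4 := Nat.le_of_dvd (by omega) h2
  exact ⟨h2, by omega⟩

end Cfsg.Agent.H219.PQ.Arith
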