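import Cfsg.Agent.H219.PQ.OrthRow
import Cfsg.Prelude.Def_LieTypeChar

/-!
# S4981: the row `PΩ⁻`, cross characteristic (helper219)
-/

set_option autoImplicit false
set_option linter.unusedSectionVars false

namespace Cfsg.Agent.H219.PQ

open Cfsg Matrix QuadraticMap Subgroup Cfsg.Agent.H254 Cfsg.Agent.H967.CopMat Cfsg.Agent.H967.CopSec
open Cfsg.Agent.LieClassical.OrthTrans Cfsg.Agent.ClassicalGeometry.OrthSemi Cfsg.Agent.LieClassical.OrthSimple
  Cfsg.Agent.H198.OrthFrame Cfsg.Agent.H198.ExtForm Cfsg.Agent.H198.Carriers Cfsg.Agent.H185.OrthCent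
  Cfsg.Agent.H185.MinusField Cfsg.Agent.H24.FixOrth Cfsg.Agent.H476.FieldOrth
open Cfsg.Agent.H54.PQ Cfsg.Agent.H754.PQ Cfsg.Agent.H55.PQ.Red

universe u

/-! ### arithmetic -/

theorem fact_gcd {p : ℕ} (hp : p.Prime) {a b : ℕ} (h : p = 2 → a ≡ b [MOD 4]) :
    (Nat.gcd 4 a).factorization p = (Nat.gcd 4 b).factorization p := by
  by_cases h2 : p = 2
  · rw [Nat.gcd_comm 4 a, Nat.gcd_comm 4 b, (h h2).gcd_eq]
  · rw [Nat.factorization_eq_zero_of_not_dvd, Nat.factorization_eq_zero_of_not_dvd]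
    · intro h1
      have h3 : p ∣ 2 ^ 2 := h1.trans (Nat.gcd_dvd_left 4 b)
      exact h2 ((Nat.prime_dvd_prime_iff_eq hp Nat.prime_two).1 (hp.dvd_of_dvd_pow h3))
    · intro h1
      have h3 : p ∣ 2 ^ 2 := h1.trans (Nat.gcd_dvd_left 4 a)
      exact h2 ((Nat.prime_dvd_prime_iff_eq hp Nat.prime_two).1 (hp.dvd_of_dvd_pow h3))

theorem odd_pow_modEq {x n : ℕ} (hx : Odd x) (hn : Odd n) : x ^ n ≡ x [MOD 4] := by
  obtain ⟨k, rfl⟩ := hn
  have h1 : x ^ 2 ≡ 1 [MOD 4] := by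
    obtain ⟨l, rfl⟩ := hx
    have h2 : (2 * l + 1) ^ 2 = 1 + 4 * (l ^ 2 + l) := by ring
    rw [h2]
    exact (Nat.modEq_iff_dvd' (Nat.le_add_right 1 _)).2 ⟨l ^ 2 + l, by omega⟩ |>.symm
  calc x ^ (2 * k + 1) = (x ^ 2) ^ k * x := by rw [pow_succ, pow_mul]
    _ ≡ 1 ^ k * x [MOD 4] := (h1.pow k).mul_right x
    _ = x := by rw [one_pow, one_mul]

/-- the `p`-part of the order of `PΩ⁻` -/
theorem fact_minus {p q : ℕ} (hp : p.Prime) (hq : q.Prime) (hpq : p ≠ q) (hq2 : q ≠ 2) {F : Type} [Field F] [Finite F]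
    {E : Type} [Field E] [Finite E] {j m : ℕ} (hm : 4 ≤ m) (hc : Nat.card F = Nat.card E ^ q ^ j)
    (h0 : ¬ p ∣ Nat.card E) (hd : ¬ q ∣ orderOf (Nat.card E : ZMod p)) {a b : F}
    (hab : ∀ z₁ z₂ : F, z₁ ^ 2 + a * z₁ * z₂ + b * z₂ ^ 2 = 0 → z₁ = 0 ∧ z₂ = 0) {a' b' : E}
    (hab' : ∀ z₁ z₂ : E, z₁ ^ 2 + a' * z₁ * z₂ + b' * z₂ ^ 2 = 0 → z₁ = 0 ∧ z₂ = 0) :
    (Nat.card (POmega F (quadFormMinus (m - 1) F a b))).factorization p =
      (Nat.card (POmega E (quadFormMinus (m - 1) E a' b'))).factorization p := by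
  have := Fintype.ofFinite F
  have := Fintype.ofFinite E
  have h1 : 1 < Nat.card E := by
    rw [Nat.card_eq_fintype_card]; exact Fintype.one_lt_card
  have e1 := S0294.result (F := F) (Nat.card_eq_fintype_card (α := F)).symm m hm a b hab
  have e2 := S0294.result (F := E) (Nat.card_eq_fintype_card (α := E)).symm m hm a' b' hab'
  rw [hc] at e1
  set q₀ := Nat.card E with hq₀
  have hqj : 0 < q ^ j := pow_pos hq.pos j
  have hQ1 : 1 < q₀ ^ q ^ j := Nat.one_lt_pow hqj.ne' h1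
  have hQ0 : ¬ p ∣ q₀ ^ q ^ j := fun h => h0 (hp.dvd_of_dvd_pow h)
  have gen : ∀ (N x : ℕ), 1 < x → ¬ p ∣ x → 0 < N →
      Nat.gcd 4 (x ^ m + 1) * N = x ^ (m * (m - 1)) * (x ^ m + 1) * ∏ i ∈ Finset.range (m - 1), (x ^ (2 * (i + 1)) - 1) →
      N.factorization p + (Nat.gcd 4 (x ^ m + 1)).factorization p = (x ^ m + 1).factorization p +
        ∑ i ∈ Finset.range (m - 1), (x ^ (2 * (i + 1)) - 1).factorization p := by
    intro N x hx hpx hN h
    have h2 : ∀ i ∈ Finset.range (m - 1), x ^ (2 * (i + 1)) - 1 ≠ 0 := by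
      intro i _
      have h3 : 1 < x ^ (2 * (i + 1)) := Nat.one_lt_pow (by omega) hx
      omega
    have h3 : x ^ (m * (m - 1)) ≠ 0 := pow_ne_zero _ (by omega)
    have h4 : x ^ m + 1 ≠ 0 := Nat.succ_ne_zero _
    have h5 : Nat.gcd 4 (x ^ m + 1) ≠ 0 := by
      intro h6
      have := (Nat.gcd_eq_zero_iff.1 h6).1
      omega
    have h6 : (Nat.gcd 4 (x ^ m + 1) * N).factorization p =
      (x ^ (m * (m - 1)) * (x ^ m + 1) * ∏ i ∈ Finset.range (m - 1), (x ^ (2 * (i + 1)) - 1)).factorization p := by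
      rw [h]
    rw [Nat.factorization_mul h5 hN.ne', Nat.factorization_mul (mul_ne_zero h3 h4) (Finset.prod_ne_zero_iff.2 h2),
      Nat.factorization_mul h3 h4, Nat.factorization_prod h2] at h6
    simp only [Finsupp.add_apply, Finsupp.finsetSum_apply] at h6
    have h7 : (x ^ (m * (m - 1))).factorization p = 0 :=
      Nat.factorization_eq_zero_of_not_dvd fun h8 => hpx (hp.dvd_of_dvd_pow h8)
    rw [h7] at h6
    omega
  have g1 := gen _ _ hQ1 hQ0 Nat.card_pos e1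
  have g2 := gen _ _ h1 h0 Nat.card_pos e2
  have k1 : ((q₀ ^ q ^ j) ^ m + 1).factorization p = (q₀ ^ m + 1).factorization p :=
    Arith.pow_add_one hp hq hpq h1 h0 hd j m (by omega)
  have k2 : ∑ i ∈ Finset.range (m - 1), ((q₀ ^ q ^ j) ^ (2 * (i + 1)) - 1).factorization p =
      ∑ i ∈ Finset.range (m - 1), (q₀ ^ (2 * (i + 1)) - 1).factorization p :=
    Finset.sum_congr rfl fun i _ => Arith.pow_sub_one hp hq hpq h1 h0 hd j _ (by omega)
  have k3 : (Nat.gcd 4 ((q₀ ^ q ^ j) ^ m + 1)).factorization p = (Nat.gcd 4 (q₀ ^ m + 1)).factorization p := by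
    refine fact_gcd hp fun hp2 => ?_
    have h2 : Odd q₀ := by
      rw [hp2] at h0
      exact Nat.odd_iff.2 (by omega)
    have h3 : Odd (q ^ j) := (hq.odd_of_ne_two hq2).pow
    exact ((odd_pow_modEq h2 h3).pow m).add_right 1
  rw [k1, k2, k3] at g1
  omega

/-- **the row `PΩ⁻` (standard form)** -/
theorem row_minus {p q r : ℕ} (hpr : p ≠ r) {F : Type} [Field F] [Fintype F] [hr : Fact r.Prime] [CharP F r] {m : ℕ}
    (hm : 4 ≤ m) (a b : F) (hab : ∀ z₁ z₂ : F, z₁ ^ 2 + a * z₁ * z₂ + b * z₂ ^ 2 = 0 → z₁ = 0 ∧ z₂ = 0) :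
    SFact p q (POmega F (quadFormMinus (m - 1) F a b)) := by
  obtain ⟨f, -, hf⟩ := FiniteField.card F r
  have hf' : Nat.card (F ≃+* F) = f := Lib.FieldAutCard.card_ringAut f.pos hf
  -- the odd part of the group of field automorphisms
  obtain ⟨ρ, hρ, hgen⟩ := exists_ringAut F
  obtain ⟨v, n, hn, hvn⟩ := Nat.exists_eq_two_pow_mul_odd (n := (f : ℕ)) f.pos.ne'
  set τ : F ≃+* F := ρ ^ (2 ^ v) with hτd
  have hτ : orderOf τ = n := by
    rw [hτd, orderOf_pow_of_dvd (by positivity) (by rw [hρ, hf', hvn]; exact dvd_mul_right _ _), hρ, hf', hvn,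
      Nat.mul_div_cancel_left _ (by positivity)]
  have hfinA : Finite (F ≃+* F) := Finite.of_injective (fun f : F ≃+* F => (f : F → F)) DFunLike.coe_injective
  have hfix : ∀ σ ∈ Subgroup.zpowers τ, ∀ x : Fx τ, σ (x : F) = x := by
    intro σ hσ x
    obtain ⟨k, rfl⟩ := (mem_powers_iff_mem_zpowers (x := τ) (y := σ)).2 hσ
    exact pow_fixed x.2 k
  obtain ⟨ζ, hζ⟩ := H182.Sign.exists_aniso (Fx τ)
  have hab₀ : Aniso (1 : Fx τ) ζ := hζ
  have hcE : Nat.card F = Nat.card (Fx τ) ^ n := by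
    have h1 := card_Fx τ
    rwa [hτ] at h1
  have hab₁ : Aniso ((Fx τ).subtype 1) ((Fx τ).subtype ζ) := aniso_map (Fx τ).subtype hn hcE hab₀
  have hab₂ : Aniso (1 : F) (ζ : F) := hab₁
  obtain ⟨e₁⟩ := H902.Iso.minus_congr (m - 1) hab hab₂
  refine sfact_congr e₁ ?_
  have hsimp : IsSimpleGroup (POmega F ⇑(minusQ (m - 1) F 1 (ζ : F))) := S0297.result m hm 1 (ζ : F) hab₂
  have hne : Nonempty ((Fin (m - 1) ⊕ Fin (m - 1)) ⊕ Fin 2) := ⟨.inr 0⟩
  have hfin : Finite (POmega F ⇑(minusQ (m - 1) F 1 (ζ : F))) := inferInstance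
  have hna : ¬ IsMulCommutative (POmega F ⇑(minusQ (m - 1) F 1 (ζ : F))) :=
    not_comm (minus_dvd (r := r) hm (char_dvd F r) hab₂ Nat.prime_two (Or.inl rfl))
      (minus_dvd (r := r) hm (char_dvd F r) hab₂ Nat.prime_three (Or.inr (Or.inr (by omega))))
  have hsolv : Group.IsSolvable (Out (POmega F ⇑(minusQ (m - 1) F 1 (ζ : F)))) :=
    isSolvable_out_of_sch (Schreier.ClassPOmega.sch_minus hm 1 (ζ : F) hab₂)
  have hcι : Fintype.card ((Fin (m - 1) ⊕ Fin (m - 1)) ⊕ Fin 2) = 2 * m := by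
    rw [Fintype.card_sum, Fintype.card_sum, Fintype.card_fin, Fintype.card_fin]
    omega
  refine row_orth (Q := minusQ (m - 1) F 1 (ζ : F)) (good_minusQ (by omega) hab₂) hna hsolv (Subgroup.zpowers τ)
    (fun σ hσ => fix_minus' (map_one σ) (hfix σ hσ ζ) (m - 1)) hpr (8 * 2 ^ v) ?_ ?_ ?_ ?_ ?_
  · intro s hs hd
    have h4 : s ∣ 2 ^ (3 + v) := by rw [pow_add]; exact hd
    have h5 := (Nat.prime_dvd_prime_iff_eq hs Nat.prime_two).1 (hs.dvd_of_dvd_pow h4)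
    omega
  · have h5 : Nat.card (MulAut (POmega F ⇑(minusQ (m - 1) F 1 (ζ : F)))) =
        Nat.card (MulAut (POmega F (quadFormMinus (m - 1) F 1 (ζ : F)))) := rfl
    rw [h5, S0818.result r f f.pos hf m hm 1 (ζ : F) hab₂]
    have h7 : (if r = 2 then 2 else (if Even (m * (r ^ (f : ℕ) - 1) / 2) then 4 else 8)) ∣ 8 := by
      split_ifs
      · exact ⟨4, by norm_num⟩
      · exact ⟨2, by norm_num⟩
      · exact dvd_rfl
    have h8 : 8 * 2 ^ v * Nat.card (Subgroup.zpowers τ) = 8 * (f : ℕ) := by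
      rw [Nat.card_zpowers, hτ, mul_assoc, ← hvn]
    rw [h8]
    exact Nat.mul_dvd_mul_right (Nat.mul_dvd_mul h7 dvd_rfl) _
  · rw [hcι]; omega
  · intro hq hqS
    by_contra hlt
    exact hqS (minus_dvd (r := r) hm (char_dvd F r) hab₂ hq (Or.inr (Or.inr (by omega))))
  · intro hp hq hpq hq2 σ hσ j hj h0 hd
    have hmem : (ζ : F) ∈ Fx σ := hfix σ hσ ζ
    have hab₃ : Aniso (1 : Fx σ) (⟨(ζ : F), hmem⟩ : Fx σ) := aniso_of_map (Fx σ).subtype hab₂
    refine ⟨minusQ (m - 1) (Fx σ) 1 ⟨(ζ : F), hmem⟩, ext_minus (Fx σ).subtype (m - 1) 1 ⟨(ζ : F), hmem⟩, ?_⟩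
    exact fact_minus hp hq hpq hq2 (E := Fx σ) (j := j) hm (by rw [← hj]; exact card_Fx σ) h0 hd hab₂ hab₃

/-- **S4981, row `PΩ⁻` in cross characteristic** -/
theorem row_ominus_cross {p q r : ℕ} (hpr : p ≠ r) {G : Type u} [Group G] [Finite G] [IsSimpleGroup G]
    (_hc : ∃ a b : G, a * b ≠ b * a) (hG : Cfsg.IsPOmegaMinusChar r G) : SFact p q G := by
  obtain ⟨F, _, _, _, m, a, b, hm, hab, ⟨e⟩⟩ := hG
  have hr : Fact r.Prime := ⟨CharP.char_is_prime F r⟩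
  exact sfact_congr e (row_minus hpr hm a b hab)

end Cfsg.Agent.H219.PQ
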